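import Groth.Agent.Lib.ProjKoszul.Iterate
import Groth.Agent.Lib.ProjKoszul.Chase
import Groth.Agent.Lib.Modules.Local
import Groth.Agent.Lib.TensorMod.Colimit
import Groth.Agent.Lib.TensorMod.Pullback
import Groth.Agent.Lib.Ample.GG
import Groth.Agent.Lib.Snapper.Twist
import Groth.Agent.Lib.CohBasics.Closure
import Groth.Agent.H78.Existence.AmpleVanish

/-!
# Uniform vanishing for `F ⊗ L^a ⊗ M^b`

Over a Noetherian affine base: the Koszul complex of sections of `L^d` without common zero shows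
that vanishing of higher cohomology propagates upwards in `a`, uniformly in `b`.
-/

set_option autoImplicit false
universe u

open CategoryTheory CategoryTheory.Limits AlgebraicGeometry TopologicalSpace

noncomputable section

namespace Groth.Agent.Lib.H98.BiVanish

open Groth.Agent.Lib TensorMod.Basic TensorMod.Pullback Groth.Agent.Lib.ProjKoszul
  Groth.Agent.Lib.Ample.Pow

variable {X : Scheme.{u}}

/-- Multiplication by a section. -/
def mulS {L : X.Modules} (s : Coh.structureModule X ⟶ L) : 𝟭 X.Modules ⟶ tensorBy L where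
  app M := (rightUnit M).inv ≫ tmap (𝟙 M) s
  naturality M N f := by
    change f ≫ (rightUnit N).inv ≫ tmap (𝟙 N) s =
      ((rightUnit M).inv ≫ tmap (𝟙 M) s) ≫ tmap f (𝟙 _)
    have h : f ≫ (rightUnit N).inv = (rightUnit M).inv ≫ tmap f (𝟙 _) := by
      rw [Iso.eq_inv_comp, ← Category.assoc, Iso.comp_inv_eq]
      exact (rightUnit_natural f).symm
    rw [reassoc_of% h, Category.assoc, ← tmap_comp, ← tmap_comp]
    simp only [Category.id_comp, Category.comp_id]

theorem isIso_pb_mulS {L : X.Modules} (s : Coh.structureModule X ⟶ L) {Y : Scheme.{u}} (j : Y ⟶ X)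
    [hs : IsIso ((pb j).map s)] (M : X.Modules) : IsIso ((pb j).map ((mulS s).app M)) := by
  have hiso : IsIso (tmap (𝟙 ((pb j).obj M)) ((pb j).map s)) :=
    (tensorIso (Iso.refl _) (asIso ((pb j).map s))).isIso_hom
  have hnat : (pullbackTensorIso j M (Coh.structureModule _)).hom ≫
      tmap (𝟙 ((pb j).obj M)) ((pb j).map s) =
      (pb j).map (tmap (𝟙 M) s) ≫ (pullbackTensorIso j M L).hom := by
    rw [← CategoryTheory.Functor.map_id]
    exact (delta_natural j (𝟙 M) s).symm
  have : IsIso ((pb j).map (tmap (𝟙 M) s)) := by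
    have e := congrArg (· ≫ (pullbackTensorIso j M L).inv) hnat
    simp only [Category.assoc, Iso.hom_inv_id, Category.comp_id] at e
    rw [← e]
    infer_instance
  change IsIso ((pb j).map ((rightUnit M).inv ≫ tmap (𝟙 M) s))
  rw [Functor.map_comp]
  infer_instance

instance additive_tensorBy (L : X.Modules) : (tensorBy L).Additive := by
  haveI := preservesBinaryBiproducts_of_preservesBinaryCoproducts (tensorBy L)
  exact Functor.additive_of_preservesBinaryBiproducts _

/-- Iterated twists. -/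
def powNat (L : X.Modules) : ∀ (m : ℕ) (G : X.Modules),
    (Iterate.pow (tensorBy L) m).obj G ≅ CohB1.tensorMod G (CohB1.tensorPow L m)
  | 0, G => (rightUnit G).symm
  | m + 1, G => powNat L m (CohB1.tensorMod G L) ≪≫ TensorMod.Basic.assoc _ _ _ ≪≫
      tensorIso (Iso.refl G) (TensorMod.Basic.comm _ _)

/-- `F ⊗ (L^a ⊗ M^b)`. -/
abbrev tw2 (F L M : X.Modules) (a b : ℕ) : X.Modules :=
  CohB1.tensorMod F (CohB1.tensorMod (CohB1.tensorPow L a) (CohB1.tensorPow M b))

/-- `(F ⊗ (L^a ⊗ M^b)) ⊗ (L^d)^l ≅ F ⊗ (L^(a + dl) ⊗ M^b)`. -/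
def shift (F L M : X.Modules) (a b d l a' : ℕ) (h : a + d * l = a') :
    (Iterate.pow (tensorBy (CohB1.tensorPow L d)) l).obj (tw2 F L M a b) ≅ tw2 F L M a' b :=
  powNat _ l _ ≪≫ TensorMod.Basic.assoc _ _ _ ≪≫ tensorIso (Iso.refl F)
    (tensorIso (Iso.refl _) (powMul L d l) ≪≫ TensorMod.Basic.assoc _ _ _ ≪≫
      tensorIso (Iso.refl _) (TensorMod.Basic.comm _ _) ≪≫ (TensorMod.Basic.assoc _ _ _).symm ≪≫
      tensorIso ((powAdd L a (d * l)).symm ≪≫ powCongr L h) (Iso.refl _))

variable (R : Type u) [CommRing R] [X.Over (Spec (CommRingCat.of R))]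

include R in
/-- One Koszul step: the vanishing at smaller exponents implies it at `a`. -/
theorem step (F L M : X.Modules) {d N : ℕ} (hd : 0 < d)
    (s : Fin N → (Coh.structureModule X ⟶ CohB1.tensorPow L d))
    (hcov : ∀ x, ∃ i, x ∈ CohB1.genLocus _ (s i)) (a₀ b : ℕ)
    (h : ∀ a, a < a₀ + d * N → ∀ q : ℕ, Subsingleton (Coh.HH X (tw2 F L M a b) (q + 1))) (q : ℕ) :
    Subsingleton (Coh.HH X (tw2 F L M (a₀ + d * N) b) (q + 1)) := by
  let T := tensorBy (CohB1.tensorPow L d)
  let μ : ℕ → (𝟭 X.Modules ⟶ T) := fun t => if ht : t < N then mulS (s ⟨t, ht⟩) else 0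
  let G := tw2 F L M a₀ b
  let K := (Iterate.kos T μ N).obj G
  let ι := {p : Fin N × X.Opens // IsIso ((Scheme.Modules.restrictFunctor p.2.ι).map (s p.1))}
  let U : ι → X.Opens := fun p => p.1.2
  have hU : ⨆ p, U p = ⊤ := eq_top_iff.mpr fun x _ => by
    obtain ⟨i, hi⟩ := hcov x
    obtain ⟨V, hV, hxV⟩ := Opens.mem_sSup.1 hi
    exact Opens.mem_iSup.2 ⟨⟨(i, V), hV⟩, hxV⟩
  have hK : ∀ i, K.ExactAt i := fun i => Modules.Local.exact_of_restrict U hU _ fun ⟨⟨t, V⟩, hV⟩ =>
    Iterate.acyclic_map_kos T μ (Scheme.Modules.restrictFunctor V.ι) G t.val (fun P => by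
      haveI : IsIso ((pb V.ι).map (s t)) :=
        (NatIso.isIso_map_iff (Scheme.Modules.restrictFunctorIsoPullback V.ι) _).1 hV
      have ht : μ t.val = mulS (s t) := dif_pos t.isLt
      rw [ht]
      exact (NatIso.isIso_map_iff (Scheme.Modules.restrictFunctorIsoPullback V.ι) _).2
        (isIso_pb_mulS (s t) V.ι P)) N t.isLt i
  obtain ⟨e⟩ := Iterate.nonempty_kos_X_iso T μ G N 0 N 0 (by simp)
  have : Unique (Fin (Nat.choose N N)) := by rw [Nat.choose_self]; infer_instance
  let etop : K.X 0 ≅ tw2 F L M (a₀ + d * N) b :=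
    e ≪≫ coproductUniqueIso _ ≪≫ eqToIso (by rw [zero_add]) ≪≫ shift F L M a₀ b d N _ rfl
  refine Chase.subsingleton_of_iso R etop ?_
  refine Chase.subsingleton_top R K hK (-(N : ℤ))
    (fun j hj => Iterate.isZero_X_of_not_mem T μ G N j (Or.inl hj))
    (Iterate.isZero_X_of_not_mem T μ G N _ (Or.inr (by norm_num))) (q + 1) fun j p hj hj0 hp => ?_
  rw [← Chase.isZero_cohFun_iff R]
  refine Iterate.isZero_kos_X T μ (Chase.cohFun R p) G N 0 j fun _ _ l hl => ?_
  obtain ⟨p, rfl⟩ : ∃ p', p = p' + 1 := ⟨p - 1, by omega⟩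
  have hlN : l < N := by omega
  exact (Chase.isZero_cohFun_iff R).2 (Chase.subsingleton_of_iso R
    (shift F L M a₀ b d l _ rfl).symm (h _ (by nlinarith) p))

/-- Uniform vanishing for large exponents of the second bundle, the first one having a power
with sections without common zero. -/
theorem exists_vanish_of_sections [IsNoetherianRing R] [IsProper (X ↘ Spec (CommRingCat.of R))]
    {F L M : X.Modules} (hLi : PicF.IsInvertible L) {d N : ℕ} (hd : 0 < d)
    (s : Fin N → (Coh.structureModule X ⟶ CohB1.tensorPow L d))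
    (hcov : ∀ x, ∃ i, x ∈ CohB1.genLocus _ (s i))
    (hM : CohB1.IsAmple M) (hF : Coh.IsCoh F) :
    ∃ n, ∀ b, n ≤ b → ∀ a q : ℕ, Subsingleton (Coh.HH X (tw2 F L M a b) (q + 1)) := by
  have hFL : ∀ a, Coh.IsCoh (CohB1.tensorMod F (CohB1.tensorPow L a)) := fun a =>
    CohBasics.Closure.isCoh_of_iso (TensorMod.Basic.comm _ _)
      (Snapper.Twist.isCoh_twist (TensorMod.Invertible.isInvertible_tensorPow hLi a) hF)
  choose n₀ hn₀ using fun a =>
    Groth.Agent.H78.Existence.AmpleVanish.exists_subsingleton R hM (hFL a)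
  refine ⟨(Finset.range (d * N)).sup n₀, fun b hb a => ?_⟩
  induction a using Nat.strong_induction_on with
  | _ a ih =>
    intro q
    by_cases ha : a < d * N
    · exact Chase.subsingleton_of_iso R (TensorMod.Basic.assoc _ _ _)
        (hn₀ a b ((Finset.le_sup (Finset.mem_range.2 ha)).trans hb) q)
    · obtain ⟨a₀, rfl⟩ : ∃ a₀, a = a₀ + d * N := ⟨a - d * N, by omega⟩
      exact step R F L M hd s hcov a₀ b ih q

/-- Uniform vanishing for large exponents of the second bundle. -/
theorem exists_vanish [IsNoetherianRing R] [IsProper (X ↘ Spec (CommRingCat.of R))]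
    {F L M : X.Modules} (hL : CohB1.IsAmple L) (hM : CohB1.IsAmple M) (hF : Coh.IsCoh F) :
    ∃ n, ∀ b, n ≤ b → ∀ a q : ℕ, Subsingleton (Coh.HH X (tw2 F L M a b) (q + 1)) := by
  obtain ⟨d, hd, N, s, -, hcov⟩ := Ample.GG.exists_common_pow hL
  exact exists_vanish_of_sections R hL.1 hd s hcov hM hF

/-- Vanishing as soon as one of the exponents is large. -/
theorem exists_vanish_max [IsNoetherianRing R] [IsProper (X ↘ Spec (CommRingCat.of R))]
    {F L M : X.Modules} (hL : CohB1.IsAmple L) (hM : CohB1.IsAmple M) (hF : Coh.IsCoh F) :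
    ∃ n, ∀ a b q : ℕ, n ≤ max a b → Subsingleton (Coh.HH X (tw2 F L M a b) (q + 1)) := by
  obtain ⟨n₁, h₁⟩ := exists_vanish R hL hM hF
  obtain ⟨n₂, h₂⟩ := exists_vanish R hM hL hF
  refine ⟨max n₁ n₂, fun a b q h => ?_⟩
  rcases le_total a b with hab | hab
  · exact h₁ b (by omega) a q
  · exact Chase.subsingleton_of_iso R (tensorIso (Iso.refl F) (TensorMod.Basic.comm _ _))
      (h₂ a (by omega) b q)

end Groth.Agent.Lib.H98.BiVanish
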